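import Cfsg.Agent.H780.GT2.Rows
import Cfsg.Agent.H772.G2.Push5
import Cfsg.Agent.H772.G2.RowA

/-!
# S5211, block `q = 2`: StPush2, StSys2 (helper772)
-/

set_option autoImplicit false

namespace Cfsg.Agent.H772.GT2

open Cfsg Cfsg.FusionSystem Cfsg.Agent.H756.PU Cfsg.Agent.H779.G2 Cfsg.Agent.H780.GT2 Cfsg.Agent.H772.G2

universe u

/-- (PUSH) -/
theorem stPush2 : StPush2.{u} := by
  intro hZ K _ p n _ hK hpn F hF hc
  obtain ⟨rfl, rfl⟩ := hpn
  have := hK.fin
  have hft := Fintype.ofFinite K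
  have hcard : Fintype.card K = 2 := by
    rw [← Nat.card_eq_fintype_card, hK.card, pow_one]
  let σ : K ≃+* ZMod 2 := (ZMod.ringEquivOfPrime K (by norm_num) hcard).symm
  obtain ⟨F', h1, h2, h3⟩ := stTransC F (Subgroup.topEquiv.trans (guEquiv σ)) hF
  exact h2 (hZ F' h1)

/-- (SYS) -/
theorem stSys2 : StSys2 := by
  intro G _ _ ι hι hT
  obtain ⟨T, hT⟩ := hT
  let e : (T : Subgroup G) ≃* U2 := (MulEquiv.subgroupCongr hT).trans (MonoidHom.ofInjective hι).symm
  have he : ∀ u : U2, ((e.symm u : (T : Subgroup G)) : G) = ι u := fun u => rfl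
  obtain ⟨F, sat, real, hom, -⟩ := exists_group_system T e
  refine ⟨F, sat, real, fun Q γ => ?_⟩
  rw [Cfsg.Agent.H802.mem_autGroup_iff F le_top, hom]
  rfl

end Cfsg.Agent.H772.GT2
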